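import Cfsg.Agent.Helper17.J1Q2TC.Lemmas

set_option autoImplicit false
set_option linter.all false

noncomputable section

namespace Cfsg.Agent.Helper17.J1Q2TC

theorem F1 : act 0 n0 = n0 := d4_0 B0 
theorem F2 : act 1 n0 = n0 := d5_0 B1 
def n1 : Q := act 2 n0
theorem D1 : act 2 n0 = n1 := rfl
theorem F3 : act 0 n1 = n1 := d1_1 D1 (iv D1) F1
def n2 : Q := act 1 n1
theorem D2 : act 1 n1 = n2 := rfl
def n3 : Q := act 0 n2
theorem D3 : act 0 n2 = n3 := rfl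
theorem F4 : act 1 n3 = n3 := d0_2 D2 D3 (iv D3) (iv D2) F3
def n4 : Q := act 2 n2
theorem D4 : act 2 n2 = n4 := rfl
def n5 : Q := act 2 n3
theorem D5 : act 2 n3 = n5 := rfl
theorem F5 : act 0 n5 = n4 := d1_1 D5 (iv D4) D3
def n6 : Q := act 1 n4
theorem D6 : act 1 n4 = n6 := rfl
theorem F6 : act 2 n6 = n6 := d2_2 D4 D6 (iv D6) (iv D4) (iv D2) (iv D1) F2 D1 D2
def n7 : Q := act 1 n5
theorem D7 : act 1 n5 = n7 := rfl
def n8 : Q := act 0 n6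
theorem D8 : act 0 n6 = n8 := rfl
theorem F7 : act 2 n8 = n8 := d1_2 F6 D8 (iv D8)
def n9 : Q := act 0 n7
theorem D9 : act 0 n7 = n9 := rfl
theorem F8 : act 1 n9 = n8 := d0_2 D7 D9 (iv D8) (iv D6) (iv F5)
theorem F9 : act 2 n9 = n7 := d3_3 D5 D7 D9 (iv D7) F5 (iv D4) (iv D2) F3 (iv D1) F2 F1 D1 D2 D3

end Cfsg.Agent.Helper17.J1Q2TC
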