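import Cfsg.Agent.Helper17.J1Q2TC.Final

set_option autoImplicit false
set_option linter.all false
set_option maxRecDepth 100000

noncomputable section

namespace Cfsg.Agent.Helper17.J1Q2TC

theorem N1 : nd 1 = n1 := ndS (p := 0) (l := 2) rfl N0 D1
theorem N2 : nd 2 = n2 := ndS (p := 1) (l := 1) rfl N1 D2
theorem N3 : nd 3 = n3 := ndS (p := 2) (l := 0) rfl N2 D3
theorem N4 : nd 4 = n4 := ndS (p := 2) (l := 2) rfl N2 D4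
theorem N5 : nd 5 = n5 := ndS (p := 3) (l := 2) rfl N3 D5
theorem N6 : nd 6 = n6 := ndS (p := 4) (l := 1) rfl N4 D6
theorem N7 : nd 7 = n7 := ndS (p := 5) (l := 1) rfl N5 D7
theorem N8 : nd 8 = n8 := ndS (p := 6) (l := 0) rfl N6 D8
theorem N9 : nd 9 = n9 := ndS (p := 7) (l := 0) rfl N7 D9
theorem Q1 : ∀ i, i < 1 → P i := stepQ 0 Q0 (allL N0 (tt N0 F1) (tt N0 F2) (tt N1 D1))
theorem Q2 : ∀ i, i < 2 → P i := stepQ 1 Q1 (allL N1 (tt N1 F3) (tt N2 D2) (tt N0 (iv D1)))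
theorem Q3 : ∀ i, i < 3 → P i := stepQ 2 Q2 (allL N2 (tt N3 D3) (tt N1 (iv D2)) (tt N4 D4))
theorem Q4 : ∀ i, i < 4 → P i := stepQ 3 Q3 (allL N3 (tt N2 (iv D3)) (tt N3 F4) (tt N5 D5))
theorem Q5 : ∀ i, i < 5 → P i := stepQ 4 Q4 (allL N4 (tt N5 (iv F5)) (tt N6 D6) (tt N2 (iv D4)))
theorem Q6 : ∀ i, i < 6 → P i := stepQ 5 Q5 (allL N5 (tt N4 F5) (tt N7 D7) (tt N3 (iv D5)))
theorem Q7 : ∀ i, i < 7 → P i := stepQ 6 Q6 (allL N6 (tt N8 D8) (tt N4 (iv D6)) (tt N6 F6))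
theorem Q8 : ∀ i, i < 8 → P i := stepQ 7 Q7 (allL N7 (tt N9 D9) (tt N5 (iv D7)) (tt N9 (iv F9)))
theorem Q9 : ∀ i, i < 9 → P i := stepQ 8 Q8 (allL N8 (tt N6 (iv D8)) (tt N9 (iv F8)) (tt N8 F7))
theorem Q10 : ∀ i, i < 10 → P i := stepQ 9 Q9 (allL N9 (tt N7 (iv D9)) (tt N8 F8) (tt N7 F9))

theorem closedN : ∀ i, i < N → P i := Q10

end Cfsg.Agent.Helper17.J1Q2TC
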